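import Mathlib.RingTheory.Discriminant
import Mathlib.RingTheory.PowerSeries.Inverse
import Mathlib.RingTheory.PowerSeries.Order
import Mathlib.RingTheory.DiscreteValuationRing.Basic
import Mathlib.RingTheory.AdjoinRoot
import Mathlib.LinearAlgebra.Matrix.NonsingularInverse
import Mathlib.LinearAlgebra.Matrix.Determinant.Basic

/-! # Lattices over `k⟦t⟧` -/

set_option autoImplicit false

universe u v

namespace Groth.Agent.H23Crimp

variable {k : Type u} [Field k]

theorem pow_eq_of_span_eq {a b : ℕ}
    (h : Ideal.span {(PowerSeries.X : PowerSeries k) ^ a} = Ideal.span {PowerSeries.X ^ b}) : a = b := by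
  have hX : (PowerSeries.X : PowerSeries k) ≠ 0 := PowerSeries.X_ne_zero
  have hu : ¬ IsUnit (PowerSeries.X : PowerSeries k) := PowerSeries.X_prime.not_unit
  rw [Ideal.span_singleton_eq_span_singleton] at h
  exact le_antisymm ((pow_dvd_pow_iff hX hu).mp h.dvd) ((pow_dvd_pow_iff hX hu).mp h.symm.dvd)

theorem exists_associated_pow {c : PowerSeries k} (hc : c ≠ 0) :
    ∃ v : ℕ, Associated c (PowerSeries.X ^ v) :=
  IsDiscreteValuationRing.associated_pow_irreducible hc PowerSeries.X_prime.irreducible

variable {F : Type v} [AddCommGroup F] [Module (PowerSeries k) F]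

theorem det_smul_mem {R : Type*} [CommRing R] {E : Type*} [AddCommGroup E] [Module R E] {ι : Type*} [Fintype ι]
    [DecidableEq ι] (bF : Module.Basis ι R E) (v : ι → E) (x : E) :
    (bF.toMatrix v).det • x ∈ Submodule.span R (Set.range v) := by
  set P := bF.toMatrix v
  have hv : ∀ j, v j = ∑ i, P i j • bF i := fun j => (bF.sum_toMatrix_smul_self v j).symm
  have hb : ∀ i, P.det • bF i ∈ Submodule.span R (Set.range v) := fun i => by
    have h : ∑ j, P.adjugate j i • v j = P.det • bF i := by
      simp only [hv, Finset.smul_sum, smul_smul]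
      rw [Finset.sum_comm, Finset.sum_eq_single i]
      · rw [← Finset.sum_smul]
        congr 1
        have h := congrFun (congrFun (Matrix.mul_adjugate P) i) i
        rw [Matrix.mul_apply, Matrix.smul_apply, Matrix.one_apply_eq, smul_eq_mul, mul_one] at h
        rw [← h]
        exact Finset.sum_congr rfl fun j _ => mul_comm _ _
      · intro l _ hl
        rw [← Finset.sum_smul]
        have h := congrFun (congrFun (Matrix.mul_adjugate P) l) i
        rw [Matrix.mul_apply, Matrix.smul_apply, Matrix.one_apply_ne hl, smul_eq_mul, mul_zero] at h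
        rw [show ∑ j, P.adjugate j i * P l j = 0 by
          rw [← h]; exact Finset.sum_congr rfl fun j _ => mul_comm _ _, zero_smul]
      · simp
    rw [← h]
    exact Submodule.sum_mem _ fun j _ => Submodule.smul_mem _ _ (Submodule.subset_span ⟨j, rfl⟩)
  rw [← bF.sum_repr x, Finset.smul_sum]
  refine Submodule.sum_mem _ fun i _ => ?_
  rw [smul_comm]
  exact Submodule.smul_mem _ _ (hb i)

theorem det_toMatrix_ne_zero {R : Type*} [CommRing R] [IsDomain R] {E : Type*} [AddCommGroup E] [Module R E]
    {ι : Type*} [Fintype ι] [DecidableEq ι] (bF : Module.Basis ι R E) {v : ι → E} (hv : LinearIndependent R v) :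
    (bF.toMatrix v).det ≠ 0 := fun h0 => by
  obtain ⟨c, hc, hPc⟩ := Matrix.exists_mulVec_eq_zero_iff.mpr h0
  refine hc (funext fun j => Fintype.linearIndependent_iff.mp hv c ?_ j)
  apply bF.repr.injective
  rw [map_zero]
  ext i
  have := congrFun hPc i
  simpa [Matrix.mulVec, dotProduct, Module.Basis.toMatrix_apply, mul_comm, Finsupp.finset_sum_apply] using this

/-- A submodule of full rank contains `X ^ v • ⊤`. -/
theorem exists_pow_smul_mem {ι : Type*} [Fintype ι] (bF : Module.Basis ι (PowerSeries k) F)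
    (M : Submodule (PowerSeries k) F) (bM : Module.Basis ι (PowerSeries k) M) :
    ∃ v : ℕ, ∀ x : F, (PowerSeries.X : PowerSeries k) ^ v • x ∈ M := by
  classical
  have hli : LinearIndependent (PowerSeries k) fun i => ((bM i : M) : F) :=
    bM.linearIndependent.map' M.subtype M.ker_subtype
  obtain ⟨v, u, hu⟩ := exists_associated_pow (det_toMatrix_ne_zero bF hli)
  refine ⟨v, fun x => ?_⟩
  rw [← hu, mul_comm, mul_smul]
  refine M.smul_mem _ ?_
  refine (Submodule.span_le.mpr ?_) (det_smul_mem bF _ x)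
  rintro _ ⟨i, rfl⟩
  exact (bM i).2

/-- The discriminant of a basis `1, w` with `w * w = c`. -/
theorem discr_pair {R : Type*} [CommRing R] {A : Type*} [CommRing A] [Algebra R A] (B : Module.Basis (Fin 2) R A)
    {c : R} (h0 : B 0 = 1) (h : B 1 * B 1 = algebraMap R A c) : Algebra.discr R ⇑B = 4 * c := by
  have ht1 : Algebra.trace R A 1 = 2 := by
    rw [← map_one (algebraMap R A), Algebra.trace_algebraMap_of_basis B]
    simp
  have htw : Algebra.trace R A (B 1) = 0 := by
    rw [Algebra.trace_eq_matrix_trace B, Matrix.trace_fin_two, Algebra.leftMulMatrix_eq_repr_mul,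
      Algebra.leftMulMatrix_eq_repr_mul, h, Algebra.algebraMap_eq_smul_one, ← h0, map_smul, h0, mul_one]
    simp [← h0]
  have htc : Algebra.trace R A (algebraMap R A c) = 2 * c := by
    rw [Algebra.trace_algebraMap_of_basis B]
    simp
  rw [Algebra.discr_def, Matrix.det_fin_two]
  simp only [Algebra.traceMatrix_apply, Algebra.traceForm_apply, h0, one_mul, mul_one, h, ht1, htw, htc]
  ring

theorem discr_basis_associated {R : Type*} [CommRing R] {A : Type*} [CommRing A] [Algebra R A] {ι : Type*}
    [Fintype ι] [DecidableEq ι] (B B' : Module.Basis ι R A) :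
    Associated (Algebra.discr R ⇑B) (Algebra.discr R ⇑B') := by
  have h := Algebra.discr_of_matrix_vecMul ⇑B (B.toMatrix B')
  rw [B.toMatrix_map_vecMul B'] at h
  rw [h]
  haveI := B.invertibleToMatrix B'
  exact ⟨(Matrix.isUnit_det_of_invertible (B.toMatrix B')).unit ^ 2, by rw [Units.val_pow_eq_pow_val, IsUnit.unit_spec, mul_comm]⟩

/-- Subalgebras of a double cover `R ⊕ R ε` with `ε² = c`. -/
theorem double_crimps [CharZero k] {A : Type v} [CommRing A] [Algebra (PowerSeries k) A]
    (B : Module.Basis (Fin 2) (PowerSeries k) A) {a : ℕ} (h0 : B 0 = 1)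
    (hsq : B 1 * B 1 = algebraMap (PowerSeries k) A (PowerSeries.X ^ a))
    (b : ℕ) (S : Subalgebra (PowerSeries k) A) :
    ((∃ bS : Module.Basis (Fin 2) (PowerSeries k) S,
      Ideal.span {Algebra.discr (PowerSeries k) ⇑bS} = Ideal.span {(PowerSeries.X : PowerSeries k) ^ b}) ↔
    ∃ n : ℕ, b = 2 * n + a ∧
      Subalgebra.toSubmodule S = Submodule.span (PowerSeries k) {(1 : A)} ⊔
        Ideal.span {(PowerSeries.X : PowerSeries k) ^ n} • (⊤ : Submodule (PowerSeries k) A)) ∧
    (∀ n : ℕ, Subalgebra.toSubmodule S = Submodule.span (PowerSeries k) {(1 : A)} ⊔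
        Ideal.span {(PowerSeries.X : PowerSeries k) ^ n} • (⊤ : Submodule (PowerSeries k) A) →
      Nonempty (S ≃ₐ[PowerSeries k] AdjoinRoot (Polynomial.X ^ 2 - Polynomial.C ((PowerSeries.X : PowerSeries k) ^ (2 * n + a))))) := by
  classical
  set X : PowerSeries k := PowerSeries.X
  have hdec : ∀ z : A, z = B.repr z 0 • (1 : A) + B.repr z 1 • B 1 := fun z => by
    conv_lhs => rw [← B.sum_repr z]
    rw [Fin.sum_univ_two, h0]
  have hmem : ∀ n : ℕ, Subalgebra.toSubmodule S = Submodule.span (PowerSeries k) {(1 : A)} ⊔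
      Ideal.span {X ^ n} • (⊤ : Submodule (PowerSeries k) A) → ∀ z : A, z ∈ S ↔ X ^ n ∣ B.repr z 1 := by
    intro n hS z
    rw [← Subalgebra.mem_toSubmodule, hS, Submodule.ideal_span_singleton_smul, Submodule.mem_sup]
    constructor
    · rintro ⟨y, hy, _, ⟨w, -, rfl⟩, rfl⟩
      obtain ⟨s, rfl⟩ := Submodule.mem_span_singleton.mp hy
      refine ⟨B.repr w 1, ?_⟩
      change B.repr (s • (1 : A) + X ^ n • w) 1 = _
      rw [← h0, map_add, map_smul, map_smul, B.repr_self]
      simp
    · rintro ⟨d, hd⟩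
      refine ⟨B.repr z 0 • (1 : A), Submodule.smul_mem _ _ (Submodule.mem_span_singleton_self _),
        X ^ n • (d • B 1), ⟨d • B 1, Submodule.mem_top, rfl⟩, ?_⟩
      rw [smul_smul, ← hd, ← hdec]
  have hbas : ∀ n : ℕ, Subalgebra.toSubmodule S = Submodule.span (PowerSeries k) {(1 : A)} ⊔
      Ideal.span {X ^ n} • (⊤ : Submodule (PowerSeries k) A) →
      ∃ B' : Module.Basis (Fin 2) (PowerSeries k) S, B' 0 = 1 ∧
        B' 1 * B' 1 = algebraMap (PowerSeries k) S (X ^ (2 * n + a)) := by
    intro n hS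
    have hw : X ^ n • B 1 ∈ S := (hmem n hS _).mpr ⟨1, by simp⟩
    let g : Fin 2 → S := ![1, ⟨X ^ n • B 1, hw⟩]
    have hli : LinearIndependent (PowerSeries k) g := by
      rw [Fintype.linearIndependent_iff]
      intro c hc
      have h := congrArg (fun s : S => B.repr (s : A)) hc
      simp only [g, Fin.sum_univ_two, Matrix.cons_val_zero, Matrix.cons_val_one, Matrix.cons_val_fin_one,
        Subalgebra.coe_add, Subalgebra.coe_smul, OneMemClass.coe_one, ← h0, map_add, map_smul, B.repr_self,
        ZeroMemClass.coe_zero, map_zero] at h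
      have e0 := DFunLike.congr_fun h 0
      have e1 := DFunLike.congr_fun h 1
      simp at e0 e1
      intro i
      fin_cases i
      · exact e0
      · exact e1.resolve_right fun hh => PowerSeries.X_ne_zero hh.1
    refine ⟨Module.Basis.mk hli fun z _ => ?_, by simp [g], ?_⟩
    · obtain ⟨d, hd⟩ := (hmem n hS _).mp z.2
      rw [show z = B.repr (z : A) 0 • g 0 + d • g 1 from Subtype.ext (by
        conv_lhs => rw [hdec (z : A), hd]
        simp [g, smul_smul, mul_comm])]
      exact add_mem (Submodule.smul_mem _ _ (Submodule.subset_span ⟨0, rfl⟩))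
        (Submodule.smul_mem _ _ (Submodule.subset_span ⟨1, rfl⟩))
    · rw [Module.Basis.mk_apply]
      refine Subtype.ext ?_
      change (X ^ n • B 1) * (X ^ n • B 1) = algebraMap (PowerSeries k) A (X ^ (2 * n + a))
      rw [smul_mul_smul_comm, hsq, Algebra.smul_def, ← map_mul, ← pow_add, ← pow_add, two_mul]
  have h4 : IsUnit (4 : PowerSeries k) := by
    rw [PowerSeries.isUnit_iff_constantCoeff, map_ofNat]
    exact isUnit_iff_ne_zero.mpr (by norm_num)
  have hspan : ∀ n (bS B' : Module.Basis (Fin 2) (PowerSeries k) S), B' 0 = 1 →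
      B' 1 * B' 1 = algebraMap (PowerSeries k) S (X ^ (2 * n + a)) →
      Ideal.span {Algebra.discr (PowerSeries k) ⇑bS} = Ideal.span {X ^ (2 * n + a)} := fun n bS B' h0' h' => by
    rw [Ideal.span_singleton_eq_span_singleton]
    refine (discr_basis_associated bS B').trans ?_
    rw [discr_pair B' h0' h']
    exact (associated_unit_mul_left _ _ h4)
  refine ⟨⟨?_, ?_⟩, ?_⟩
  · rintro ⟨bS, hbS⟩
    obtain ⟨D, hD, hD'⟩ : ∃ D : Ideal (PowerSeries k), D ≠ ⊥ ∧ ∀ z : A, z ∈ S ↔ B.repr z 1 ∈ D := by
      refine ⟨Submodule.map ((Finsupp.lapply (1 : Fin 2)).comp B.repr.toLinearMap) (Subalgebra.toSubmodule S),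
        fun hbot => ?_, fun z => ⟨fun hz => ⟨z, hz, rfl⟩, ?_⟩⟩
      · obtain ⟨v, hv⟩ := exists_pow_smul_mem B (Subalgebra.toSubmodule S) bS
        have h : B.repr (X ^ v • B 1) 1 ∈ (⊥ : Ideal (PowerSeries k)) := hbot ▸ ⟨_, hv (B 1), rfl⟩
        simp at h
        exact PowerSeries.X_ne_zero h.1
      · rintro ⟨w, hw, hwz⟩
        change B.repr w 1 = B.repr z 1 at hwz
        rw [show z = w + (B.repr z 0 - B.repr w 0) • (1 : A) by
          conv_lhs => rw [hdec z, ← hwz]
          conv_rhs => enter [1]; rw [hdec w]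
          rw [sub_smul]
          abel]
        exact add_mem hw (Subalgebra.smul_mem _ (one_mem S) _)
    obtain ⟨n, hn⟩ := IsDiscreteValuationRing.ideal_eq_span_pow_irreducible hD PowerSeries.X_prime.irreducible
    have hS : Subalgebra.toSubmodule S = Submodule.span (PowerSeries k) {(1 : A)} ⊔
        Ideal.span {X ^ n} • (⊤ : Submodule (PowerSeries k) A) := by
      ext z
      rw [Subalgebra.mem_toSubmodule, hD', hn, Ideal.mem_span_singleton, Submodule.ideal_span_singleton_smul,
        Submodule.mem_sup]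
      constructor
      · rintro ⟨d, hd⟩
        refine ⟨B.repr z 0 • (1 : A), Submodule.smul_mem _ _ (Submodule.mem_span_singleton_self _),
          X ^ n • (d • B 1), ⟨d • B 1, Submodule.mem_top, rfl⟩, ?_⟩
        rw [smul_smul, ← hd, ← hdec]
      · rintro ⟨y, hy, _, ⟨w, -, rfl⟩, rfl⟩
        obtain ⟨s, rfl⟩ := Submodule.mem_span_singleton.mp hy
        refine ⟨B.repr w 1, ?_⟩
        change B.repr (s • (1 : A) + X ^ n • w) 1 = _
        rw [← h0, map_add, map_smul, map_smul, B.repr_self]
        simp [X]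
    obtain ⟨B', h0', h'⟩ := hbas n hS
    exact ⟨n, pow_eq_of_span_eq (hbS.symm.trans (hspan n bS B' h0' h')), hS⟩
  · rintro ⟨n, rfl, hS⟩
    obtain ⟨B', h0', h'⟩ := hbas n hS
    exact ⟨B', hspan n B' B' h0' h'⟩
  · intro n hS
    obtain ⟨B', h0', h'⟩ := hbas n hS
    set p : Polynomial (PowerSeries k) := Polynomial.X ^ 2 - Polynomial.C (X ^ (2 * n + a))
    have hm : p.Monic := Polynomial.monic_X_pow_sub_C _ two_ne_zero
    have hd : p.natDegree = 2 := Polynomial.natDegree_X_pow_sub_C
    let φ : AdjoinRoot p →ₐ[PowerSeries k] S :=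
      AdjoinRoot.liftAlgHom p (Algebra.ofId (PowerSeries k) S) (B' 1) (by
        simp [p, h', pow_two, Polynomial.eval₂_sub, Algebra.ofId_apply])
    have hs : Function.Surjective φ := fun z => by
      refine ⟨algebraMap _ _ (B'.repr z 0) + B'.repr z 1 • AdjoinRoot.root p, ?_⟩
      rw [map_add, AlgHom.commutes, map_smul, AdjoinRoot.liftAlgHom_root, Algebra.algebraMap_eq_smul_one, ← h0']
      exact (Fin.sum_univ_two _).symm.trans (B'.sum_repr z)
    let pb := AdjoinRoot.powerBasis' hm
    let e : AdjoinRoot p ≃ₗ[PowerSeries k] S :=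
      pb.basis.equiv B' (finCongr (show pb.dim = 2 by simp [pb, hd]))
    have hi : Function.Injective φ := by
      haveI : Module.Finite (PowerSeries k) S := Module.Finite.of_basis B'
      have : Function.Bijective (φ.toLinearMap.comp e.symm.toLinearMap) :=
        OrzechProperty.bijective_of_surjective_endomorphism _ (hs.comp e.symm.surjective)
      intro x y hxy
      obtain ⟨x, rfl⟩ := e.symm.surjective x
      obtain ⟨y, rfl⟩ := e.symm.surjective y
      exact congrArg e.symm (this.1 hxy)
    exact ⟨(AlgEquiv.ofBijective φ ⟨hi, hs⟩).symm⟩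

end Groth.Agent.H23Crimp
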