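import Groth.Prelude.Def_W4c1hurwitzcptBd
import Groth.Agent.H23Crimp.Basic
import Mathlib.RingTheory.Nakayama

/-! # Submodules of the totally ramified cover `k⟦x⟧` of `k⟦t⟧` -/

set_option autoImplicit false

universe u

open W4c1hurwitzcpt

namespace Groth.Agent.H23Crimp

variable {p : ℕ} [NeZero p] {k : Type u} [Field k]

theorem val_smul (r : PowerSeries k) (z : RootDisk p k) :
    RootDisk.val (r • z) = PowerSeries.expand p (NeZero.ne p) r * RootDisk.val z := rfl

theorem val_one : RootDisk.val (1 : RootDisk p k) = 1 := map_one _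

variable (p k) in
/-- Coordinates with respect to `1, x, …, x ^ (p - 1)`. -/
noncomputable def coordsInv : (Fin p → PowerSeries k) →ₗ[PowerSeries k] RootDisk p k :=
  Fintype.linearCombination (PowerSeries k) fun i : Fin p =>
    RootDisk.val.symm (PowerSeries.X ^ (i : ℕ))

theorem coeff_coordsInv (v : Fin p → PowerSeries k) (q : ℕ) (i : Fin p) :
    PowerSeries.coeff (p * q + i) (RootDisk.val (coordsInv p k v)) = PowerSeries.coeff q (v i) := by
  have h : RootDisk.val (coordsInv p k v) =
      ∑ j : Fin p, PowerSeries.expand p (NeZero.ne p) (v j) * PowerSeries.X ^ (j : ℕ) := by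
    rw [coordsInv, Fintype.linearCombination_apply, map_sum]
    exact Finset.sum_congr rfl fun j _ => by rw [val_smul, RingEquiv.apply_symm_apply]
  rw [h, map_sum, Finset.sum_eq_single i]
  · rw [PowerSeries.coeff_mul_X_pow, PowerSeries.coeff_expand_mul]
  · intro j _ hj
    rw [PowerSeries.coeff_mul_X_pow']
    split_ifs with hle
    · refine PowerSeries.coeff_expand_of_not_dvd p (NeZero.ne p) _ ?_
      intro hd
      apply hj
      apply Fin.ext
      obtain ⟨c, hc⟩ := hd
      have h1 : (p * q + i : ℕ) = p * c + j := by omega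
      have h2 := congrArg (· % p) h1
      simpa [Nat.mul_add_mod, Nat.mod_eq_of_lt i.isLt, Nat.mod_eq_of_lt j.isLt] using h2.symm
    · rfl
  · simp

theorem coordsInv_bijective : Function.Bijective (coordsInv p k) := by
  constructor
  · intro v w h
    funext i
    ext q
    rw [← coeff_coordsInv v q i, h, coeff_coordsInv]
  · intro z
    refine ⟨fun i => PowerSeries.mk fun q => PowerSeries.coeff (p * q + i) (RootDisk.val z), ?_⟩
    apply RootDisk.val.injective
    ext m
    have hm : m = p * (m / p) + (⟨m % p, Nat.mod_lt _ (NeZero.pos p)⟩ : Fin p) := (Nat.div_add_mod m p).symm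
    rw [hm, coeff_coordsInv, PowerSeries.coeff_mk]

variable (p k) in
/-- The basis `1, x, …, x ^ (p - 1)`. -/
noncomputable def diskBasis : Module.Basis (Fin p) (PowerSeries k) (RootDisk p k) :=
  Module.Basis.ofEquivFun (LinearEquiv.ofBijective _ coordsInv_bijective).symm

instance : Module.Finite (PowerSeries k) (RootDisk p k) := Module.Finite.of_basis (diskBasis p k)

theorem order_val_smul (r : PowerSeries k) (z : RootDisk p k) :
    (RootDisk.val (r • z)).order = p • r.order + (RootDisk.val z).order := by
  rw [val_smul, PowerSeries.order_mul, PowerSeries.order_expand]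

/-- Elimination: a submodule containing `t ^ N • ⊤` is spanned by elements of all residue orders. -/
theorem exists_ordered_gens (M : Submodule (PowerSeries k) (RootDisk p k)) (N : ℕ)
    (hN : ∀ z : RootDisk p k, (PowerSeries.X : PowerSeries k) ^ N • z ∈ M) :
    ∃ (g : Fin p → RootDisk p k) (e : Fin p → ℕ), (∀ r, g r ∈ M) ∧
      (∀ r, (RootDisk.val (g r)).order = (e r : ℕ∞) ∧ e r % p = r) ∧
      Submodule.span (PowerSeries k) (Set.range g) = M := by
  classical
  have hex : ∀ r : Fin p, ∃ e : ℕ, e % p = r ∧ ∃ z ∈ M, (RootDisk.val z).order = (e : ℕ∞) := fun r => by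
    refine ⟨p * N + r, by simp [Nat.mod_eq_of_lt r.isLt], _, hN (RootDisk.val.symm (PowerSeries.X ^ (r : ℕ))), ?_⟩
    rw [order_val_smul, RingEquiv.apply_symm_apply, PowerSeries.order_X_pow, PowerSeries.order_X_pow, nsmul_eq_mul]
    push_cast
    rfl
  have hspec := fun r => Nat.find_spec (hex r)
  have hmin := fun r => @Nat.find_min' _ _ (hex r)
  choose g hg using fun r => (hspec r).2
  refine ⟨g, fun r => Nat.find (hex r), fun r => (hg r).1, fun r => ⟨(hg r).2, (hspec r).1⟩, ?_⟩
  set G := Submodule.span (PowerSeries k) (Set.range g)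
  have hGM : G ≤ M := Submodule.span_le.mpr (by rintro _ ⟨r, rfl⟩; exact (hg r).1)
  refine le_antisymm hGM ?_
  set 𝔪 := Ideal.span {(PowerSeries.X : PowerSeries k)}
  have hdeep : ∀ z : RootDisk p k, ((p * (N + 1) : ℕ) : ℕ∞) ≤ (RootDisk.val z).order → z ∈ 𝔪 • M := by
    intro z hz
    obtain ⟨w, hw⟩ := PowerSeries.X_pow_dvd_iff.mpr (fun m hm => PowerSeries.coeff_of_lt_order m
      (lt_of_lt_of_le (Nat.cast_lt.mpr hm) hz))
    have : z = (PowerSeries.X : PowerSeries k) • ((PowerSeries.X : PowerSeries k) ^ N • RootDisk.val.symm w) := by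
      apply RootDisk.val.injective
      rw [smul_smul, ← pow_succ', val_smul, RingEquiv.apply_symm_apply, map_pow, PowerSeries.expand_X, ← pow_mul, hw]
    rw [this]
    exact Submodule.smul_mem_smul (Ideal.mem_span_singleton_self _) (hN _)
  have hstep : ∀ j : ℕ, ∀ y ∈ M, ((p * (N + 1) - j : ℕ) : ℕ∞) ≤ (RootDisk.val y).order → y ∈ G ⊔ 𝔪 • M := by
    intro j
    induction j with
    | zero => exact fun y _ h => Submodule.mem_sup_right (hdeep y h)
    | succ j ih =>
      intro y hy h
      by_cases hlt : ((p * (N + 1) - j : ℕ) : ℕ∞) ≤ (RootDisk.val y).order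
      · exact ih y hy hlt
      · obtain ⟨e, he⟩ := ENat.ne_top_iff_exists.mp (ne_top_of_lt (not_le.mp hlt))
        rw [← he, Nat.cast_le] at hlt h
        set r : Fin p := ⟨e % p, Nat.mod_lt _ (NeZero.pos p)⟩
        have hle : Nat.find (hex r) ≤ e := hmin r ⟨rfl, y, hy, he.symm⟩
        obtain ⟨d, hd⟩ : p ∣ e - Nat.find (hex r) :=
          (Nat.modEq_iff_dvd' hle).mp ((hspec r).1.trans rfl)
        have hed : p * d + Nat.find (hex r) = e := by omega
        set c : k := PowerSeries.coeff e (RootDisk.val y) /
          PowerSeries.coeff (Nat.find (hex r)) (RootDisk.val (g r))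
        set q : RootDisk p k := (PowerSeries.C c * PowerSeries.X ^ d) • g r
        have hqG : q ∈ G := Submodule.smul_mem _ _ (Submodule.subset_span ⟨r, rfl⟩)
        have hgo := PowerSeries.order_eq_nat.mp (hg r).2
        have hcoe : ∀ m ≤ e, PowerSeries.coeff m (RootDisk.val q) = if m = e then PowerSeries.coeff e (RootDisk.val y) else 0 := by
          intro m hm
          have : RootDisk.val q = PowerSeries.C c * (RootDisk.val (g r) * PowerSeries.X ^ (p * d)) := by
            simp only [q, val_smul, map_mul, map_pow, PowerSeries.expand_C, PowerSeries.expand_X, ← pow_mul]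
            ring
          rw [this, PowerSeries.coeff_C_mul, PowerSeries.coeff_mul_X_pow']
          split_ifs with h1 h2 h2
          · rw [h2, show e - p * d = Nat.find (hex r) by omega, div_mul_cancel₀ _ hgo.1]
          · rw [hgo.2 _ (by omega), mul_zero]
          · omega
          · rw [mul_zero]
        have hy' : y - q ∈ G ⊔ 𝔪 • M := by
          refine ih _ (M.sub_mem hy (hGM hqG)) (le_trans (Nat.cast_le.mpr (by omega : p * (N + 1) - j ≤ e + 1)) ?_)
          refine PowerSeries.nat_le_order _ _ fun m hm => ?_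
          rw [map_sub, map_sub, hcoe m (by omega)]
          split_ifs with h2
          · rw [h2, sub_self]
          · rw [sub_zero]
            exact PowerSeries.coeff_of_lt_order _ (by rw [← he, Nat.cast_lt]; omega)
        simpa using add_mem hy' (Submodule.mem_sup_left hqG : q ∈ G ⊔ 𝔪 • M)
  haveI : IsNoetherian (PowerSeries k) (RootDisk p k) := isNoetherian_of_isNoetherianRing_of_finite _ _
  refine Submodule.le_of_le_smul_of_le_jacobson_bot (I := 𝔪) (IsNoetherian.noetherian M) ?_
    fun y hy => hstep (p * (N + 1)) y hy (by simp)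
  rw [IsLocalRing.jacobson_eq_maximalIdeal ⊥ bot_ne_top, PowerSeries.maximalIdeal_eq_span_X]

end Groth.Agent.H23Crimp
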